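import Groth.Agent.L15.WeakAss
import Groth.Agent.L22.EnrSev.H0
import Groth.Agent.L22.FibreDim
import Groth.Agent.L21.Mod.Stalks
import Groth.Agent.L00.StalkFunctor

/-!
Removing the embedded associated points of a coherent module.
-/

set_option autoImplicit false
set_option linter.style.haveILetI false
set_option backward.isDefEq.respectTransparency.types false
set_option backward.isDefEq.respectTransparency false

universe u

open CategoryTheory CategoryTheory.Limits AlgebraicGeometry TopologicalSpace Opposite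

noncomputable section

namespace Groth.L22.RemEmb

open Groth.L18.Frame (rs)

variable {X : Scheme.{u}} [IsLocallyNoetherian X] (F : X.Modules)

/-- The embedded associated points. -/
def Emb : Set X :=
  {x | Curv2.IsAssPoint F x ∧ ∃ z ∈ CohB1.support F, z ⤳ x ∧ z ≠ x}

def embClosure : Set X := ⋃ x ∈ Emb F, closure {x}

variable {F}

omit [IsLocallyNoetherian X] in
theorem mem_support_of_germ {M : X.Modules} {U : X.Opens} {x : X} (hx : x ∈ U) {s : Γ(M, U)}
    (h : M.presheaf.germ U x hx s ≠ 0) : x ∈ CohB1.support M := fun hs =>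
  h (@Subsingleton.elim _ hs _ _)

omit [IsLocallyNoetherian X] in
theorem mem_support_of_isAssPoint {x : X} (h : Curv2.IsAssPoint F x) : x ∈ CohB1.support F := by
  intro hs
  obtain ⟨m, hm⟩ := Groth.L15.WeakAss.isWeakAssPoint_of_isAssPoint h
  haveI : Subsingleton (F.presheaf.stalk x) := hs
  refine (IsLocalRing.maximalIdeal.isMaximal (X.presheaf.stalk x)).ne_top ((Ideal.eq_top_iff_one _).2 ?_)
  rw [← hm]
  exact Ideal.le_radical (LinearMap.mem_ker.2 (Subsingleton.elim _ _))

theorem finite_assPoint_inter (hF : Coh.IsCoh F) {V : X.Opens} (hV : IsAffineOpen V) :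
    ({x | Curv2.IsAssPoint F x} ∩ (V : Set X)).Finite := by
  classical
  haveI : Coh.IsQCoh F := hF.1
  haveI : IsNoetherianRing Γ(X, V) := IsLocallyNoetherian.component_noetherian ⟨V, hV⟩
  haveI : Module.Finite Γ(X, V) Γ(F, V) := Groth.L20.ModStalk.finite_sections F hF hV
  refine Set.Finite.of_finite_image (f := fun x =>
    if h : x ∈ V then (hV.primeIdealOf ⟨x, h⟩).asIdeal else ⊥)
    ((associatedPrimes.finite Γ(X, V) Γ(F, V)).subset ?_) ?_
  · rintro _ ⟨x, ⟨hx, hxV⟩, rfl⟩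
    simp only [SetLike.mem_coe] at hxV
    simp only [hxV, dite_true]
    exact (Groth.L19.Ass.mem_iff_of_affine F hV hxV).1 hx
  · rintro a ⟨-, ha⟩ b ⟨-, hb⟩ h
    simp only [SetLike.mem_coe] at ha hb
    simp only [ha, hb, dite_true] at h
    refine (hV.fromSpec_primeIdealOf ⟨a, ha⟩).symm.trans (Eq.trans ?_ (hV.fromSpec_primeIdealOf ⟨b, hb⟩))
    exact congrArg _ (PrimeSpectrum.ext h)

theorem isClosed_embClosure (hF : Coh.IsCoh F) : IsClosed (embClosure F) := by
  rw [← isOpen_compl_iff, isOpen_iff_forall_mem_open]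
  intro y hy
  obtain ⟨_, ⟨V, hV, rfl⟩, hyV, -⟩ :=
    X.isBasis_affineOpens.exists_subset_of_mem_open (Set.mem_univ y) isOpen_univ
  have hfin : (Emb F ∩ (V : Set X)).Finite :=
    (finite_assPoint_inter hF hV).subset fun x hx => ⟨hx.1.1, hx.2⟩
  refine ⟨(V : Set X) \ ⋃ x ∈ Emb F ∩ (V : Set X), closure {x}, fun z hz hzE => ?_,
    V.isOpen.sdiff (hfin.isClosed_biUnion fun _ _ => isClosed_closure), hyV, fun h => hy ?_⟩
  · obtain ⟨x, hx, hzx⟩ := Set.mem_iUnion₂.1 hzE
    exact hz.2 (Set.mem_iUnion₂.2 ⟨x, ⟨hx, (specializes_iff_mem_closure.2 hzx).mem_open V.isOpen hz.1⟩, hzx⟩)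
  · obtain ⟨x, hx, hyx⟩ := Set.mem_iUnion₂.1 h
    exact Set.mem_iUnion₂.2 ⟨x, hx.1, hyx⟩

theorem isMax_notMem {η : X} (hmax : ∀ z ∈ CohB1.support F, z ⤳ η → z = η) : η ∉ embClosure F := by
  intro h
  obtain ⟨x, ⟨hx, z, hz, hzx, hne⟩, hηx⟩ := Set.mem_iUnion₂.1 h
  have := hmax x (mem_support_of_isAssPoint hx) (specializes_iff_mem_closure.2 hηx)
  subst this
  exact hne (hmax z hz hzx)

theorem exists_max (hF : Coh.IsCoh F) {y : X} (hy : y ∈ CohB1.support F) :
    ∃ η ∈ CohB1.support F, η ⤳ y ∧ ∀ z ∈ CohB1.support F, z ⤳ η → z = η := by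
  let T : Closeds X := ⟨CohB1.support F, Groth.L16.CohSupport.isClosed_support F hF.2⟩
  let J := Scheme.IdealSheafData.vanishingIdeal T
  have hr : Set.range J.subschemeι = CohB1.support F := by
    rw [Scheme.IdealSheafData.range_subschemeι, Scheme.IdealSheafData.coe_support_vanishingIdeal]
    rfl
  obtain ⟨y', rfl⟩ := hr.ge hy
  obtain ⟨η, hη, hmax⟩ := Groth.L22.FibreDim.exists_maximal_specializes y'
  refine ⟨J.subschemeι η, hr.le ⟨η, rfl⟩, hη.map J.subschemeι.continuous, fun z hz hzη => ?_⟩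
  obtain ⟨z', rfl⟩ := hr.ge hz
  rw [hmax z' (J.subschemeι.isEmbedding.isInducing.specializes_iff.mp hzη)]

theorem isAssPoint_of_max (hF : Coh.IsCoh F) {η : X} (hη : η ∈ CohB1.support F)
    (hmax : ∀ z ∈ CohB1.support F, z ⤳ η → z = η) : Curv2.IsAssPoint F η := by
  haveI : Coh.IsQCoh F := hF.1
  haveI : Nontrivial (F.presheaf.stalk η) := not_subsingleton_iff_nontrivial.1 hη
  obtain ⟨m, hm⟩ := exists_ne (0 : F.presheaf.stalk η)
  obtain ⟨V₀, hηV₀, s, rfl⟩ := TopCat.Presheaf.exists_germ_eq F.presheaf m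
  obtain ⟨_, ⟨V, hV, rfl⟩, hηV, hVV₀⟩ :=
    X.isBasis_affineOpens.exists_subset_of_mem_open hηV₀ V₀.isOpen
  replace hV : IsAffineOpen V := hV
  set n := rs F hVV₀ s
  have hn : F.presheaf.germ V η hηV n ≠ 0 := by
    rw [Groth.L20.ModStalk.germ_rs]; exact hm
  have hle : Submodule.colon (⊥ : Submodule Γ(X, V) Γ(F, V)) {n} ≤ (hV.primeIdealOf ⟨η, hηV⟩).asIdeal := by
    intro a ha
    by_contra hna
    refine hn ?_
    letI := Groth.L20.ModStalk.stalkModule F hηV
    haveI := Groth.L20.ModStalk.isLocalizedModule_germ F hV hηV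
    exact (IsLocalizedModule.eq_zero_iff (hV.primeIdealOf ⟨η, hηV⟩).asIdeal.primeCompl
      (Groth.L20.ModStalk.germₗ F hηV)).2 ⟨⟨a, hna⟩, Groth.L15.WeakAss.mem_colon.1 ha⟩
  obtain ⟨q, hq, hqle⟩ := Ideal.exists_minimalPrimes_le hle
  let q' : Spec Γ(X, V) := ⟨q, hq.isPrime⟩
  have hpq := congrArg PrimeSpectrum.asIdeal (Groth.L19.Ass.primeIdealOf_fromSpec hV q'
    (Groth.L19.Ass.fromSpec_mem hV q'))
  have hwη : hV.fromSpec q' ⤳ η := by
    have := ((PrimeSpectrum.le_iff_specializes q' (hV.primeIdealOf ⟨η, hηV⟩)).1 hqle).map hV.fromSpec.continuous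
    rwa [hV.fromSpec_primeIdealOf] at this
  have hwS : hV.fromSpec q' ∈ CohB1.support F :=
    mem_support_of_germ _ (Groth.L15.WeakAss.germ_ne_zero_of_le F hV (Groth.L19.Ass.fromSpec_mem hV q') n
      (by rw [hpq]; exact hq.le))
  rw [← hmax _ hwS hwη]
  exact Groth.L15.WeakAss.isAssPoint_of_isWeakAssPoint F
    (Groth.L15.WeakAss.isWeakAssPoint_of_minimal F hV _ n (by rw [hpq]; exact hq))

theorem isWeakAssPoint_of_mono {M N : X.Modules} (ψ : M ⟶ N) [Mono ψ] {x : X}
    (h : Curv2.IsWeakAssPoint M x) : Curv2.IsWeakAssPoint N x := by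
  obtain ⟨m, hm⟩ := h
  have hinj : Function.Injective ((Groth.L00.Stk.F X x).map ψ).hom :=
    (ModuleCat.mono_iff_injective _).1 inferInstance
  refine ⟨((Groth.L00.Stk.F X x).map ψ).hom m, ?_⟩
  rw [← hm]
  congr 1
  ext a
  rw [LinearMap.mem_ker, LinearMap.mem_ker, LinearMap.toSpanSingleton_apply, LinearMap.toSpanSingleton_apply]
  exact ⟨fun h => hinj (((((Groth.L00.Stk.F X x).map ψ).hom.map_smul a m).trans h).trans (map_zero _).symm),
    fun h => ((((Groth.L00.Stk.F X x).map ψ).hom.map_smul a m).symm.trans (congrArg _ h)).trans (map_zero _)⟩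

theorem main (hF : Coh.IsCoh F) :
    ∃ K : Subobject F, Coh.IsCoh (K : X.Modules) ∧
      (∀ U : X.Opens, (U : Set ↥X) ∩ CohB1.support F ⊆ CohB1.support (K : X.Modules) → (U : Set ↥X) ∩ CohB1.support F = ∅) ∧
      (∀ K' : Subobject F, Coh.IsCoh (K' : X.Modules) →
        (∀ U : X.Opens, (U : Set ↥X) ∩ CohB1.support F ⊆ CohB1.support (K' : X.Modules) → (U : Set ↥X) ∩ CohB1.support F = ∅) →
        K' ≤ K) ∧
      CohB1.support (cokernel K.arrow) = CohB1.support F ∧
      (∀ x : ↥X, Curv2.IsAssPoint (cokernel K.arrow) x → ∀ y : ↥X, Curv2.IsAssPoint (cokernel K.arrow) y → y ⤳ x → y = x) ∧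
      ∃ U : X.Opens, Dense (U : Set ↥X) ∧ CohB1.support F ⊆ closure ((U : Set ↥X) ∩ CohB1.support F) ∧
        IsIso ((Scheme.Modules.restrictFunctor U.ι).map (cokernel.π K.arrow)) := by
  classical
  haveI : Coh.IsQCoh F := hF.1
  set S := CohB1.support F
  let W : X.Opens := ⟨(embClosure F)ᶜ, (isClosed_embClosure hF).isOpen_compl⟩
  let G := (Scheme.Modules.restrictFunctor W.ι).obj F
  haveI : Coh.IsQCoh G := inferInstanceAs (Coh.IsQCoh ((Scheme.Modules.restrictFunctor W.ι).obj F))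
  haveI : Coh.IsQCoh ((Scheme.Modules.pushforward W.ι).obj G) :=
    Groth.L16.QcqsPush.isQCoh_push W.ι (M := G)
  let φ : F ⟶ (Scheme.Modules.pushforward W.ι).obj G :=
    (Scheme.Modules.restrictAdjunction W.ι).unit.app F
  have hφ : ∀ (V : X.Opens) (s : Γ(F, V)),
      φ.app V s = rs F (W.ι.image_preimage_le V) s := fun V s => rfl
  let K : Subobject F := Subobject.mk (kernel.ι φ)
  let eK : (K : X.Modules) ≅ kernel φ := Subobject.underlyingIso _
  have hKcoh : Coh.IsCoh (K : X.Modules) :=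
    Groth.L16.CohSupport.isCoh_of_iso eK.symm (Groth.L16.CohSupport.isCoh_kernel hF φ)
  have hKφ : K.arrow ≫ φ = 0 := by
    rw [← Subobject.underlyingIso_hom_comp_eq_mk, Category.assoc, kernel.condition, comp_zero]
  have hKsupp : ∀ x, x ∈ W → Subsingleton ((K : X.Modules).presheaf.stalk x) := by
    intro x hxW
    refine subsingleton_of_forall_eq 0 fun m => ?_
    obtain ⟨V, hxV, t, rfl⟩ := TopCat.Presheaf.exists_germ_eq (K : X.Modules).presheaf m
    have h0 : φ.app V (K.arrow.app V t) = 0 := by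
      have := congr($(congrArg (fun g => Scheme.Modules.Hom.app g V) hKφ) t)
      exact this
    rw [hφ] at h0
    have hmem : x ∈ W.ι ''ᵁ (W.ι ⁻¹ᵁ V) := ⟨⟨x, hxW⟩, hxV, rfl⟩
    have h1 : F.presheaf.germ V x hxV (K.arrow.app V t) = 0 := by
      rw [← Groth.L20.ModStalk.germ_rs F (W.ι.image_preimage_le V) hmem]
      exact (congrArg (F.presheaf.germ _ x hmem) h0).trans (map_zero _)
    refine (Groth.L21.Mod.mono_iff_stalk_injective K.arrow).1 inferInstance x ?_
    exact ((Groth.L21.Mod.stalkF_map_germ K.arrow V x hxV t).trans h1).trans (map_zero _).symm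
  have hKE : ∀ x ∈ CohB1.support (K : X.Modules), x ∈ embClosure F := fun x hx => by
    by_contra hxE
    exact hx (hKsupp x hxE)
  have hcoker : Coh.IsCoh (cokernel K.arrow) := (Groth.L16.CohKernel.isCoh_kernel_cokernel hKcoh hF K.arrow).2
  have hbij : ∀ x, x ∈ W →
      Function.Bijective ((Groth.L21.Mod.stalkF X x).map (cokernel.π K.arrow)) := by
    intro x hxW
    have hex := (Groth.L21.Mod.exact_iff_stalk (ShortComplex.mk K.arrow (cokernel.π K.arrow) (cokernel.condition _))).1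
      (ShortComplex.exact_cokernel _) x
    rw [ShortComplex.ab_exact_iff] at hex
    refine ⟨(injective_iff_map_eq_zero _).2 fun a ha => ?_,
      (Groth.L21.Mod.epi_iff_stalk_surjective (cokernel.π K.arrow)).1 inferInstance x⟩
    obtain ⟨b, hb⟩ := hex a ha
    haveI := hKsupp x hxW
    rw [← hb]
    exact (congrArg _ (Subsingleton.elim (α := (K : X.Modules).presheaf.stalk x) b 0)).trans (map_zero _)
  refine ⟨K, hKcoh, fun U hU => ?_, fun K' hK' hnd => ?_, ?_, ?_, W, ?_, ?_, ?_⟩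
  · refine Set.eq_empty_of_forall_notMem fun y hy => ?_
    obtain ⟨η, hη, hηy, hmax⟩ := exists_max hF hy.2
    exact isMax_notMem hmax (hKE η (hU ⟨hηy.mem_open U.isOpen hy.1, hη⟩))
  · suffices h0 : K'.arrow ≫ φ = 0 by
      exact Subobject.le_mk_of_comm (kernel.lift φ K'.arrow h0) (kernel.lift_ι _ _ _)
    refine Scheme.Modules.hom_ext _ _ (fun V => ?_)
    ext t
    show φ.app V (K'.arrow.app V t) = 0
    rw [hφ]
    refine TopCat.Presheaf.section_ext ((Groth.L21.Mod.toAbSh X).obj F) _ _ 0 fun x hx => ?_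
    show F.presheaf.germ _ x hx (rs F _ (K'.arrow.app V t)) = F.presheaf.germ _ x hx 0
    rw [map_zero]
    obtain ⟨_, ⟨Ω, hΩ, rfl⟩, hxΩ, hΩle⟩ :=
      X.isBasis_affineOpens.exists_subset_of_mem_open hx (W.ι ''ᵁ (W.ι ⁻¹ᵁ V)).isOpen
    replace hΩ : IsAffineOpen Ω := hΩ
    by_contra hne
    rw [← Groth.L20.ModStalk.germ_rs F hΩle hxΩ] at hne
    obtain ⟨z, hzΩ, hz, hzs⟩ := Groth.L15.WeakAss.exists_weakAss_germ_ne_zero F hΩ
      (s := rs F hΩle (rs F (W.ι.image_preimage_le V) (K'.arrow.app V t))) (fun h => hne (by rw [h, map_zero]))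
    have hzW : z ∈ W := by
      obtain ⟨w, -, rfl⟩ := hΩle hzΩ
      exact w.2
    have hzass := Groth.L15.WeakAss.isAssPoint_of_isWeakAssPoint F hz
    have hzmax : ∀ w ∈ S, w ⤳ z → w = z := fun w hw hwz => by
      by_contra hne'
      exact hzW (Set.mem_iUnion₂.2 ⟨z, ⟨hzass, w, hw, hwz, hne'⟩, subset_closure rfl⟩)
    have hzK : z ∈ CohB1.support (K' : X.Modules) := by
      intro hs
      rw [Groth.L20.ModStalk.germ_rs, Groth.L20.ModStalk.germ_rs] at hzs
      refine hzs ((Groth.L21.Mod.stalkF_map_germ K'.arrow V z _ t).symm.trans ?_)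
      haveI : Subsingleton ((K' : X.Modules).presheaf.stalk z) := hs
      exact (congrArg _ (Subsingleton.elim _ 0)).trans (map_zero _)
    let B : Set X := ⋃ w ∈ ({w | Curv2.IsAssPoint F w} ∩ (Ω : Set X)) \ {w | w = z}, closure {w}
    have hB : IsClosed B :=
      ((finite_assPoint_inter hF hΩ).subset Set.sdiff_subset).isClosed_biUnion fun _ _ => isClosed_closure
    let U : X.Opens := ⟨(Ω : Set X) \ B, Ω.isOpen.sdiff hB⟩
    have hzB : z ∉ B := fun h => by
      obtain ⟨w, ⟨⟨hw, -⟩, hwne⟩, hzw⟩ := Set.mem_iUnion₂.1 h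
      exact hwne (hzmax w (mem_support_of_isAssPoint hw) (specializes_iff_mem_closure.2 hzw))
    have hUS : (U : Set X) ∩ S ⊆ CohB1.support (K' : X.Modules) := by
      rintro y ⟨⟨hyΩ, hyB⟩, hyS⟩
      obtain ⟨η, hη, hηy, hηmax⟩ := exists_max hF hyS
      have hηz : η = z := by
        by_contra hne'
        exact hyB (Set.mem_iUnion₂.2 ⟨η, ⟨⟨isAssPoint_of_max hF hη hηmax, hηy.mem_open Ω.isOpen hyΩ⟩, hne'⟩,
          specializes_iff_mem_closure.1 hηy⟩)
      exact hηy.mem_closed (Groth.L16.CohSupport.isClosed_support _ hK'.2) (hηz ▸ hzK)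
    exact Set.notMem_empty z ((hnd U hUS).le ⟨⟨hzΩ, hzB⟩, mem_support_of_isAssPoint hzass⟩)
  · refine Set.Subset.antisymm (fun x hx hs => hx ?_) fun y hy => ?_
    · haveI : Subsingleton ↑((Groth.L21.Mod.stalkF X x).obj F) := hs
      exact ((Groth.L21.Mod.epi_iff_stalk_surjective (cokernel.π K.arrow)).1 inferInstance x).subsingleton
    · obtain ⟨η, hη, hηy, hmax⟩ := exists_max hF hy
      refine hηy.mem_closed (Groth.L16.CohSupport.isClosed_support _ hcoker.2) fun hs => hη ?_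
      haveI : Subsingleton ↑((Groth.L21.Mod.stalkF X η).obj (cokernel K.arrow)) := hs
      exact (hbij η (isMax_notMem hmax)).injective.subsingleton
  · have key : ∀ x, Curv2.IsAssPoint (cokernel K.arrow) x → Curv2.IsAssPoint F x ∧ x ∈ W := by
      intro x hx
      let ψ : cokernel K.arrow ⟶ (Scheme.Modules.pushforward W.ι).obj G := cokernel.desc _ φ hKφ
      haveI : Mono ψ := by
        let e : cokernel K.arrow ≅ cokernel (kernel.ι φ) :=
          cokernel.mapIso _ _ eK (Iso.refl F) (by simp [eK, K])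
        have he : ψ = e.hom ≫ Abelian.factorThruCoimage φ := by
          apply coequalizer.hom_ext
          simp [ψ, e, Abelian.factorThruCoimage]
        rw [he]
        infer_instance
      obtain ⟨w, hw, -⟩ := Groth.L15.WeakAss.weakAss_push_subset G W.ι x
        (isWeakAssPoint_of_mono ψ (Groth.L15.WeakAss.isWeakAssPoint_of_isAssPoint hx))
      have hxW : x ∈ W := hw ▸ w.2
      refine ⟨(LinearEquiv.isAssociatedPrime_iff (LinearEquiv.ofBijective
        ((Groth.L00.Stk.F X x).map (cokernel.π K.arrow)).hom (hbij x hxW))).2 hx, hxW⟩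
    intro x hx y hy hyx
    obtain ⟨hxF, hxW⟩ := key x hx
    by_contra hne
    exact hxW (Set.mem_iUnion₂.2 ⟨x, ⟨hxF, y, mem_support_of_isAssPoint (key y hy).1, hyx, hne⟩,
      subset_closure rfl⟩)
  · intro x
    obtain ⟨η, hη, hmax⟩ := Groth.L22.FibreDim.exists_maximal_specializes x
    exact specializes_iff_mem_closure.1 hη |> fun h => closure_mono
      (Set.singleton_subset_iff.2 (show η ∈ (W : Set X) from isMax_notMem fun z _ hz => hmax z hz)) h
  · intro y hy
    obtain ⟨η, hη, hηy, hmax⟩ := exists_max hF hy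
    exact closure_mono (Set.singleton_subset_iff.2 (show η ∈ (W : Set X) ∩ S from ⟨isMax_notMem hmax, hη⟩))
      (specializes_iff_mem_closure.1 hηy)
  · rw [Groth.L21.Mod.isIso_iff_stalk_bijective]
    intro w
    rw [Groth.L21.Mod.restrict_stalk_map, ← ConcreteCategory.isIso_iff_bijective]
    haveI : IsIso ((Groth.L21.Mod.stalkF X (W.ι w)).map (cokernel.π K.arrow)) :=
      (ConcreteCategory.isIso_iff_bijective _).2 (hbij _ w.2)
    infer_instance

end Groth.L22.RemEmb
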